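import Cfsg.Agent.H348.KKL.PSixA
import Cfsg.Agent.H557.InvE8
import Cfsg.Agent.H40.KKL.XOne
import Cfsg.Agent.GenExc.Data

/-!
# S4546, row `E₈(q)`, `q` odd, box P6 (helper348): the classical involutions

* `conj_of_trace` : an involution of trace `24` is conjugate to `h_{a_7}(-1)`;
* `P6core` : no configuration with an involution of trace `24` (from X1 and X2a).
-/

set_option autoImplicit false
set_option linter.unusedSectionVars false

namespace Cfsg.Agent.H348.KKL.E8R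

open Module CoxeterSystem Cfsg Cfsg.Lie Cfsg.Lie.ChevalleyDatum Cfsg.Agent.H613.KKL Cfsg.Agent.H167.KKL
open Cfsg.Agent.ChevalleyStructure Cfsg.Agent.ChevalleyStructure.RootVec Cfsg.Agent.ChevalleyStructure.Elts
open Cfsg.Agent.OddHalf.NI.ModelChev Cfsg.Agent.H557.SignTorus Cfsg.Agent.H557.InvClass
  Cfsg.Agent.H557.ToralTypes Cfsg.Agent.H557.OrbE8 Cfsg.Agent.H557.InvE8 Cfsg.Agent.H557.SubTab
open Cfsg.Agent.Nodes.RGDChev Cfsg.Agent.KFacts.RgdChevCoord

universe u

/-- the trace is a class function -/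
theorem trL_conj {D : ChevalleyDatum} {k : Type u} [Field k] (g t : ↥(D.group k)) : trL D (g * t * g⁻¹) = trL D t :=
  Matrix.trace_units_conj (g : GL D.Idx k) _

theorem trL_isConj {D : ChevalleyDatum} {k : Type u} [Field k] {s t : ↥(D.group k)} (h : IsConj s t) :
    trL D s = trL D t := by
  obtain ⟨g, rfl⟩ := isConj_iff.1 h
  exact (trL_conj g s).symm

section

variable {K : Type u} [Field K]

/-- the characters of the representatives -/
theorem ch_rep {n : ℕ} {i₀ : Fin 8} (hn : ∀ j : Fin 8, par 8 (n &&& cm.getD j 0) = decide (j = i₀)) {r : ℕ}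
    (hr : r < chevE8.nroots) :
    ch Nodes.KindE.isType8 (vec chevE8 8 r) (th Nodes.KindE.isType8 (sg K 8 n)) = (-1 : K) ^ rt chevE8 r i₀ := by
  rw [Cfsg.Agent.H557.SignTorus.ch_eq Nodes.KindE.isType8 Cfsg.Agent.H557.InvE8.cs (isRoot_vec Nodes.KindE.isType8 _ hr), Finset.prod_eq_single i₀]
  · rw [chi_sg hcm, hn, decide_eq_true rfl, if_pos rfl, Units.val_zpow_eq_zpow_val, Units.val_neg, Units.val_one,
      vec_apply]
  · intro j _ hj
    rw [chi_sg hcm, hn, decide_eq_false hj, if_neg (by simp), one_zpow]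
  · intro h; exact absurd (Finset.mem_univ _) h

set_option backward.isDefEq.respectTransparency false in
theorem num_D8 : (chevE8.rank : ℤ) + ((List.finRange chevE8.nroots).map fun r : Fin chevE8.nroots =>
    if rt chevE8 r (0 : Fin 8) % 2 = 0 then (1 : ℤ) else -1).sum = -8 := by decide +kernel

/-- the trace of the second class -/
theorem tr_D8 : trL chevE8 (th Nodes.KindE.isType8 (sg K 8 n_TabD8)) = -8 := by
  have e := trL_TT Nodes.KindE.isType8 (n := th Nodes.KindE.isType8 (sg K 8 n_TabD8))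
    (thT Nodes.KindE.isType8 (sg K 8 n_TabD8)).2
    (f := fun r => rt chevE8 r (0 : Fin 8)) fun r hr => ch_rep n0_TabD8 hr
  have h := congrArg (Int.cast : ℤ → K) num_D8
  refine e.trans (h.trans ?_)
  norm_num

end

theorem zS_eq {F : Type} [Field F] :
    Cfsg.Agent.GenExc.Chev.zS Cfsg.Agent.GenExc.Chev.isType_E8 F [7] = th Nodes.KindE.isType8 (sg F 8 128) := by
  have h5 : sg F 8 128 = Pi.mulSingle 7 (-1 : Fˣ) := by
    funext i
    fin_cases i <;> simp [Cfsg.Agent.H557.SignTorus.sg, Nat.testBit]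
  rw [h5]
  show _ = ((thT Nodes.KindE.isType8 (Pi.mulSingle 7 (-1 : Fˣ)) : ↥(TT chevE8 F)) : ↥(chevE8.group F))
  rw [thT_mulSingle, coe_hcH, Cfsg.Agent.GenExc.Chev.zS_cons, Cfsg.Agent.GenExc.Chev.zS_nil, mul_one]
  apply Subtype.ext
  rw [Cfsg.Agent.OddHalf.LongSL.Chev.phi_neg_one]
  simp only [Units.val_neg, Units.val_one]
  rfl

theorem two_ne {F : Type u} [Field F] [Fintype F] (ho : Odd (Fintype.card F)) : (2 : F) ≠ 0 := by
  obtain ⟨p, hpp, hpc, hp2⟩ := exists_char F ho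
  intro h
  have h3 : p ∣ 2 := (CharP.cast_eq_zero_iff F p 2).1 (by exact_mod_cast h)
  have h4 := (Nat.prime_dvd_prime_iff_eq hpp Nat.prime_two).1 h3
  rw [h4] at hp2
  exact absurd hp2 (by decide)

/-- **An involution of trace `24` is conjugate to `h_{a_7}(-1)`.** -/
theorem conj_of_trace {F : Type} [Field F] [Fintype F] (ho : Odd (Fintype.card F)) {t : ↥(chevE8.group F)}
    (ht : t * t = 1) (ht1 : t ≠ 1) (h : trL chevE8 t = 24) :
    IsConj (Cfsg.Agent.GenExc.Chev.zS Cfsg.Agent.GenExc.Chev.isType_E8 F [7]) t := by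
  have h2 := two_ne ho
  obtain ⟨p, hpp, hpc, hp2⟩ := exists_char F ho
  have : Fact p.Prime := ⟨hpp⟩
  obtain ⟨g, hg⟩ := toral_E8 ho ht
  obtain ⟨b, hb⟩ := surj_E8 hg
  have hb2 : b * b = 1 := by
    apply inj_E8
    rw [map_mul, hb]
    have : g * t * g⁻¹ * (g * t * g⁻¹) = g * (t * t) * g⁻¹ := by group
    rw [this, ht, mul_one, mul_inv_cancel]
  obtain ⟨m, hm, rfl⟩ := exists_sg hb2
  have c4 : IsConj t (th Nodes.KindE.isType8 (sg F 8 m)) := isConj_iff.2 ⟨g, hb.symm⟩
  rcases cover m hm with h0 | h0 | h0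
  · exfalso
    subst h0
    rw [sg_zero, map_one] at hb
    apply ht1
    have h3 : t = g⁻¹ * (g * t * g⁻¹) * g := by group
    rw [h3, ← hb, mul_one, inv_mul_cancel]
  · exfalso
    have c2 := D_TabD8.conj hcm (K := F) p h0
    have h3 := trL_isConj (c4.trans c2)
    rw [h, tr_D8] at h3
    have h5 : (2 : F) ^ 5 = 0 := by
      have : (2 : F) ^ 5 = 24 - -8 := by norm_num
      rw [this, h3, sub_self]
    exact h2 (pow_eq_zero_iff (by norm_num) |>.1 h5)
  · have c1 := D_TabE7A1.conj hcm (K := F) p (m := 128) (by decide)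
    have c2 := D_TabE7A1.conj hcm (K := F) p h0
    rw [zS_eq]
    exact c1.trans (c2.symm.trans c4.symm)

/-- **P6, over the finite field**: no configuration with an involution of trace `24`. -/
theorem P6core {F : Type} [Field F] [Fintype F] (ho : Odd (Fintype.card F)) {D : Subgroup ↥(chevE8.group F)}
    {x : ↥(chevE8.group F)} (hD : Cfg0 D x)
    (hX2 : ∃ J : ↥(chevE8.group F) → Subgroup ↥(chevE8.group F),
      (∀ t, IsConj (Cfsg.Agent.GenExc.Chev.zS Cfsg.Agent.GenExc.Chev.isType_E8 F [7]) t → CI t (J t)) ∧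
      ∀ y t g, y * g * y⁻¹ ∈ J (y * t * y⁻¹) ↔ g ∈ J t)
    {V : Type} [AddCommGroup V] [Module F V] [FiniteDimensional F V] (ρ : ↥(chevE8.group F) →* Module.End F V)
    (hρ : ∀ t, IsConj (Cfsg.Agent.GenExc.Chev.zS Cfsg.Agent.GenExc.Chev.isType_E8 F [7]) t →
      Module.finrank F ↥(LinearMap.ker (ρ t + 1)) = 112)
    {d : ↥(chevE8.group F)} (hd : d ∈ D) (hd1 : d ≠ 1) (h : trL chevE8 d = 24) : False := by
  obtain ⟨J, hJ1, hJ2⟩ := hX2
  obtain ⟨y, hy⟩ := hD.seven
  have hconj : ∀ t ∈ D, t ≠ 1 →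
      IsConj (Cfsg.Agent.GenExc.Chev.zS Cfsg.Agent.GenExc.Chev.isType_E8 F [7]) t := by
    intro t ht ht1
    obtain ⟨k, hk⟩ := hy.trans d hd hd1 t ht ht1
    exact (conj_of_trace ho (hD.e8.inv d hd) hd1 h).trans (isConj_iff.2 ⟨_, hk⟩)
  have h3 := (Cfsg.Agent.H40.KKL.X1 hD J (fun t ht ht1 => hJ1 t (hconj t ht ht1)) (fun y t _ _ g => hJ2 y t g)
    (two_ne ho) ρ).2.2 d hd hd1
  rw [hρ d (hconj d hd hd1)] at h3
  omega

/-- the trace and the embedding -/
theorem trL_emb {D : ChevalleyDatum} (hD : InList D) {F k : Type u} [Field F] [Field k] (f : F →+* k)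
    (d : ↥(D.group F)) : trL D (Cfsg.Agent.GpExc.Field.emb hD f d) = f (trL D d) := by
  unfold trL Matrix.trace
  rw [map_sum]
  exact Finset.sum_congr rfl fun i _ => rfl

/-- **P6**: no configuration with an involution whose image has trace `24`. -/
theorem P6 (hp : IsType chevE8 8 CoxeterMatrix.E₈) {F : Type} [Field F] [Fintype F] (ho : Odd (Fintype.card F))
    {k : Type} [Field k] (f : F →+* k) {D : Subgroup ↥(chevE8.group F)}
    {x : ↥(chevE8.group F)} (hD : Cfg0 D x)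
    (hX2 : ∃ J : ↥(chevE8.group F) → Subgroup ↥(chevE8.group F),
      (∀ t, IsConj (Cfsg.Agent.GenExc.Chev.zS Cfsg.Agent.GenExc.Chev.isType_E8 F [7]) t → CI t (J t)) ∧
      ∀ y t g, y * g * y⁻¹ ∈ J (y * t * y⁻¹) ↔ g ∈ J t)
    {V : Type} [AddCommGroup V] [Module F V] [FiniteDimensional F V] (ρ : ↥(chevE8.group F) →* Module.End F V)
    (hρ : ∀ t, IsConj (Cfsg.Agent.GenExc.Chev.zS Cfsg.Agent.GenExc.Chev.isType_E8 F [7]) t →
      Module.finrank F ↥(LinearMap.ker (ρ t + 1)) = 112)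
    {d : ↥(chevE8.group F)} (hd : d ∈ D) (hd1 : d ≠ 1)
    (h : trL chevE8 (Cfsg.Agent.GpExc.Field.emb hp.inList f d) = 24) : False := by
  refine P6core ho hD hX2 ρ hρ hd hd1 ?_
  rw [trL_emb] at h
  apply f.injective
  rw [h, map_ofNat]

end Cfsg.Agent.H348.KKL.E8R
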