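import Cfsg.Agent.H892.ElReg
import Cfsg.Agent.H129.TorusChar
import Cfsg.Agent.H167.KKL.DefsE8

/-!
# S4546, row `E₈(q)`, `q` odd, box P6a (helper348): traces of involutions of the torus

* `coe_TT` : the matrix of an element of the torus, any field;
* `trL_TT` : the trace on the Lie algebra;
* `P6a` : an involution of the torus of `E₈` has trace `24` or `-8`.
-/

set_option autoImplicit false
set_option linter.unusedSectionVars false

namespace Cfsg.Agent.H348.KKL.E8R

open CoxeterSystem Cfsg Cfsg.Lie Cfsg.Lie.ChevalleyDatum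
open Cfsg.Agent.ChevalleyStructure Cfsg.Agent.ChevalleyStructure.Elts Cfsg.Agent.ChevalleyStructure.CoxeterGeom
  Cfsg.Agent.ChevalleyStructure.CoxeterGeomTypes Cfsg.Agent.ChevalleyStructure.NPerm
  Cfsg.Agent.ChevalleyStructure.RootVec
open Cfsg.Agent.Tits.Roots Cfsg.Agent.Tits.Core Cfsg.Agent.Nodes Cfsg.Agent.Nodes.Reps Cfsg.Agent.Nodes.BNOf
  Cfsg.Agent.Nodes.RGDChev Cfsg.Agent.Nodes.Bruhat Cfsg.Agent.Nodes.NormalForm
open Cfsg.Agent.KFacts.RgdField Cfsg.Agent.KFacts.RgdChevCoord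
open Cfsg.Agent.BpExc Cfsg.Agent.BpExc.TorCent Cfsg.Agent.BpExc.TorChev Cfsg.Agent.BpExc.Tow
  Cfsg.Agent.BpExc.TowChev Cfsg.Agent.BpExc.Fr Cfsg.Agent.BpExc.Pair Cfsg.Agent.BpExc.LangFr Cfsg.Agent.GpExc.Field
open Cfsg.Agent.H469.Exc Cfsg.Agent.H129.TorusChar Cfsg.Agent.H892.El Cfsg.Agent.H167.KKL

universe u

variable {D : ChevalleyDatum} {l : ℕ} {M : CoxeterMatrix (Fin l)} (hp : IsType D l M) {k : Type u} [Field k]

/-- **The matrix of an element of the torus**, any field. -/
theorem coe_TT {t : ↥(D.group k)} (ht : t ∈ TT D k) :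
    ((t : GL D.Idx k) : Matrix D.Idx D.Idx k) = Matrix.diagonal (dd hp t) := by
  have hT : ∀ g ∈ Subgroup.closure {g | ∃ (j : Fin l) (c : k), c ≠ 0 ∧ g = Cfsg.Agent.KFacts.RgdChevCoord.hc hp j c},
      g ∈ TT D k := by
    intro g hg
    refine (Subgroup.closure_le _).2 ?_ hg
    rintro _ ⟨j, c, hc0, rfl⟩
    exact hc_mem hp j hc0
  have hone : ∀ s : Fin D.nroots, ch hp (vec D l s) (1 : ↥(D.group k)) = 1 := by
    intro s
    rw [← cX_vec hp (one_mem (TT D k)) s.2, cX_one]
  have key : MatEq hp t := by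
    refine Subgroup.closure_induction (p := fun t _ => MatEq hp t) ?_ ?_ ?_ ?_ (TT_le hp ht)
    · rintro _ ⟨j, c, hc0, rfl⟩
      exact MatEq.hc hp j hc0
    · exact MatEq.one hp hone
    · intro s t hs ht h1 h2
      exact MatEq.mul hp h1 h2 fun a => ch_mul hp a.2 (hT s hs) (hT t ht)
    · intro s hs h1
      refine MatEq.inv hp h1 fun a => ?_
      rw [← ch_mul hp a.2 (inv_mem (hT s hs)) (hT s hs), inv_mul_cancel, hone]
  exact key

/-! ### bits -/

theorem neg_one_zpow_eq (n : ℤ) : (-1 : k) ^ n = ((if n % 2 = 0 then (1 : ℤ) else -1 : ℤ) : k) := by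
  split_ifs with h
  · rw [Even.neg_one_zpow (Int.even_iff.2 h), Int.cast_one]
  · rw [Odd.neg_one_zpow (Int.odd_iff.2 (by omega)), Int.cast_neg, Int.cast_one]

theorem neg_one_zpow_sum {ι : Type*} (s : Finset ι) (f : ι → ℤ) : ∏ i ∈ s, (-1 : k) ^ f i = (-1) ^ (∑ i ∈ s, f i) := by
  classical
  induction s using Finset.induction_on with
  | empty => simp
  | insert a s ha ih => rw [Finset.prod_insert ha, Finset.sum_insert ha, ih, zpow_add₀ (neg_ne_zero.2 one_ne_zero)]

/-- the pairing of a `0-1`-vector with a root -/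
def pr (D : ChevalleyDatum) (l b r : ℕ) : ℤ := ((List.finRange l).map fun i : Fin l => if b.testBit i then rt D r i else 0).sum

/-- the trace of an involution of the torus -/
def trN (D : ChevalleyDatum) (l b : ℕ) : ℤ :=
  (D.rank : ℤ) + ((List.finRange D.nroots).map fun r : Fin D.nroots => if pr D l b r % 2 = 0 then (1 : ℤ) else -1).sum

/-- the bits of an involution -/
theorem exists_bits {n : ↥(D.group k)} (hn : n ∈ TT D k) (h2 : n * n = 1) :
    ∃ b < 2 ^ l, (∀ i : Fin l, ch hp (sr i) n = if b.testBit i then -1 else 1) ∧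
      ∀ r < D.nroots, ch hp (vec D l r) n = (-1) ^ pr D l b r := by
  classical
  have h3 : ∀ i : Fin l, ch hp (sr i) n = 1 ∨ ch hp (sr i) n = -1 := by
    intro i
    have h4 := cX_mul hp hn hn (sr i)
    rw [h2, cX_one, cX_sr] at h4
    exact mul_self_eq_one_iff.1 h4.symm
  let f : Fin l → Bool := fun i => decide (ch hp (sr i) n ≠ 1)
  refine ⟨Nat.ofBits f, Nat.ofBits_lt_two_pow f, fun i => ?_, fun r hr => ?_⟩
  · rw [Nat.testBit_ofBits_lt f i i.2]
    rcases h3 i with h | h
    · rw [h, if_neg (by simp [f, h])]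
    · by_cases h6 : ch hp (sr i) n = 1
      · rw [h6, if_neg (by simp [f, h6])]
      · rw [if_pos (by simp [f, h6]), h]
  rw [← cX_vec hp hn hr]
  unfold cX
  have h5 : ∀ i : Fin l, ch hp (sr i) n ^ vec D l r i =
      (-1 : k) ^ (if (Nat.ofBits f).testBit i then rt D r i else 0) := by
    intro i
    rw [Nat.testBit_ofBits_lt f i i.2, vec_apply]
    rcases h3 i with h | h
    · rw [h, one_zpow, if_neg (by simp [f, h]), zpow_zero]
    · by_cases h6 : ch hp (sr i) n = 1
      · rw [h6, one_zpow, if_neg (by simp [f, h6]), zpow_zero]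
      · rw [if_pos (by simp [f, h6]), h]
  rw [Finset.prod_congr rfl fun i _ => h5 i, neg_one_zpow_sum, Fin.sum_univ_def]
  rfl

/-- the trace -/
theorem trL_TT {n : ↥(D.group k)} (hn : n ∈ TT D k) {f : ℕ → ℤ} (h : ∀ r < D.nroots, ch hp (vec D l r) n = (-1) ^ f r) :
    trL D n =
      (((D.rank : ℤ) + ((List.finRange D.nroots).map fun r : Fin D.nroots => if f r % 2 = 0 then (1 : ℤ) else -1).sum : ℤ) : k) := by
  unfold trL
  rw [coe_TT hp hn, Matrix.trace_diagonal]
  unfold dd
  rw [Fintype.sum_sum_type]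
  simp only [Sum.elim_inl, Sum.elim_inr]
  rw [Finset.sum_const, Finset.card_univ, Fintype.card_fin, nsmul_eq_mul, mul_one, Int.cast_add, Int.cast_natCast,
    ← Fin.sum_univ_def, Int.cast_sum]
  congr 1
  refine Finset.sum_congr rfl fun r _ => ?_
  rw [h r r.2, neg_one_zpow_eq]

set_option backward.isDefEq.respectTransparency false in
theorem trN_E8_0 : ∀ b < 32, b + 0 = 0 ∨ trN chevE8 8 (b + 0) = 24 ∨ trN chevE8 8 (b + 0) = -8 := by decide +kernel

set_option backward.isDefEq.respectTransparency false in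
theorem trN_E8_1 : ∀ b < 32, b + 32 = 0 ∨ trN chevE8 8 (b + 32) = 24 ∨ trN chevE8 8 (b + 32) = -8 := by decide +kernel

set_option backward.isDefEq.respectTransparency false in
theorem trN_E8_2 : ∀ b < 32, b + 64 = 0 ∨ trN chevE8 8 (b + 64) = 24 ∨ trN chevE8 8 (b + 64) = -8 := by decide +kernel

set_option backward.isDefEq.respectTransparency false in
theorem trN_E8_3 : ∀ b < 32, b + 96 = 0 ∨ trN chevE8 8 (b + 96) = 24 ∨ trN chevE8 8 (b + 96) = -8 := by decide +kernel

set_option backward.isDefEq.respectTransparency false in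
theorem trN_E8_4 : ∀ b < 32, b + 128 = 0 ∨ trN chevE8 8 (b + 128) = 24 ∨ trN chevE8 8 (b + 128) = -8 := by decide +kernel

set_option backward.isDefEq.respectTransparency false in
theorem trN_E8_5 : ∀ b < 32, b + 160 = 0 ∨ trN chevE8 8 (b + 160) = 24 ∨ trN chevE8 8 (b + 160) = -8 := by decide +kernel

set_option backward.isDefEq.respectTransparency false in
theorem trN_E8_6 : ∀ b < 32, b + 192 = 0 ∨ trN chevE8 8 (b + 192) = 24 ∨ trN chevE8 8 (b + 192) = -8 := by decide +kernel

set_option backward.isDefEq.respectTransparency false in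
theorem trN_E8_7 : ∀ b < 32, b + 224 = 0 ∨ trN chevE8 8 (b + 224) = 24 ∨ trN chevE8 8 (b + 224) = -8 := by decide +kernel

theorem trN_E8 : ∀ b < 2 ^ 8, b = 0 ∨ trN chevE8 8 b = 24 ∨ trN chevE8 8 b = -8 := by
  intro b hb
  have h : ∀ c, c ≤ b → b < c + 32 → (∀ b < 32, b + c = 0 ∨ trN chevE8 8 (b + c) = 24 ∨ trN chevE8 8 (b + c) = -8) →
      (b = 0 ∨ trN chevE8 8 b = 24 ∨ trN chevE8 8 b = -8) := by
    intro c hc hc' H
    have e := H (b - c) (by omega)
    rwa [Nat.sub_add_cancel hc] at e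
  have hb' : b < 256 := hb
  rcases lt_or_ge b 32 with h1 | h1
  · exact h 0 (by omega) (by omega) trN_E8_0
  rcases lt_or_ge b 64 with h2 | h2
  · exact h 32 (by omega) (by omega) trN_E8_1
  rcases lt_or_ge b 96 with h3 | h3
  · exact h 64 (by omega) (by omega) trN_E8_2
  rcases lt_or_ge b 128 with h4 | h4
  · exact h 96 (by omega) (by omega) trN_E8_3
  rcases lt_or_ge b 160 with h5 | h5
  · exact h 128 (by omega) (by omega) trN_E8_4
  rcases lt_or_ge b 192 with h6 | h6
  · exact h 160 (by omega) (by omega) trN_E8_5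
  rcases lt_or_ge b 224 with h7 | h7
  · exact h 192 (by omega) (by omega) trN_E8_6
  · exact h 224 (by omega) (by omega) trN_E8_7

/-- **P6a: involutions of the torus have trace 24 or -8.** -/
theorem P6a (hp : IsType chevE8 8 CoxeterMatrix.E₈) {k : Type u} [Field k] {z : ↥(chevE8.group k)}
    (hz : z ∈ TT chevE8 k) (h1 : z * z = 1) (hz1 : z ≠ 1) : trL chevE8 z = 24 ∨ trL chevE8 z = -8 := by
  obtain ⟨b, hb, hb0, hbr⟩ := exists_bits hp hz h1
  have e := trL_TT hp hz hbr
  have e' : trL chevE8 z = (trN chevE8 8 b : k) := e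
  rcases trN_E8 b hb with h | h | h
  · exfalso
    apply hz1
    refine cX_inj hp hz (one_mem _) fun i => ?_
    rw [cX_sr, cX_one, hb0 i, h]
    simp
  · left
    rw [e', h]
    norm_num
  · right
    rw [e', h]
    norm_num

end Cfsg.Agent.H348.KKL.E8R
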