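import Cfsg.Agent.H613.KKL.Defs

/-!
# S4546, sporadic rows: general lemmas (helper348)
-/

set_option autoImplicit false

namespace Cfsg.Agent.H348.KKL

open Subgroup Cfsg Cfsg.Agent.H613.KKL

/-- A finite invariant set on which a finite group acts freely has size divisible by the order. -/
theorem free_dvd {H X : Type*} [Group H] [Finite H] (φ : H →* Equiv.Perm X) (U : Finset X)
    (hU : ∀ h : H, ∀ x ∈ U, φ h x ∈ U) (hfree : ∀ h : H, ∀ x ∈ U, φ h x = x → h = 1) :
    Nat.card H ∣ U.card := by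
  classical
  have := Fintype.ofFinite H
  induction hn : U.card using Nat.strong_induction_on generalizing U with
  | _ n ih =>
    subst hn
    rcases U.eq_empty_or_nonempty with rfl | ⟨x, hx⟩
    · simp
    · set O : Finset X := Finset.univ.image (fun h : H => φ h x) with hO
      have hOU : O ⊆ U := by
        intro y hy
        obtain ⟨h, -, rfl⟩ := Finset.mem_image.1 hy
        exact hU h x hx
      have hinj : Function.Injective (fun h : H => φ h x) := by
        intro h k hhk
        have hhk' : φ h x = φ k x := hhk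
        have h1 : φ (k⁻¹ * h) x = x := by
          rw [map_mul, Equiv.Perm.mul_apply, hhk', ← Equiv.Perm.mul_apply, ← map_mul, inv_mul_cancel, map_one,
            Equiv.Perm.one_apply]
        have h2 := hfree _ x hx h1
        exact (inv_mul_eq_one.1 h2).symm
      have hcardO : O.card = Nat.card H := by
        rw [hO, Finset.card_image_of_injective _ hinj, Finset.card_univ, Nat.card_eq_fintype_card]
      have hmemO : ∀ y, y ∈ O ↔ ∃ h : H, φ h x = y := by
        intro y; simp [hO]
      have hlt : (U \ O).card < U.card := by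
        refine Finset.card_lt_card (Finset.ssubset_iff_subset_ne.2 ⟨Finset.sdiff_subset, fun h => ?_⟩)
        have h1 : x ∈ O := (hmemO x).2 ⟨1, by rw [map_one, Equiv.Perm.one_apply]⟩
        have h2 : x ∈ U \ O := by rw [h]; exact hx
        exact (Finset.mem_sdiff.1 h2).2 h1
      have hd := ih _ hlt (U \ O) (fun h y hy => by
        obtain ⟨h1, h2⟩ := Finset.mem_sdiff.1 hy
        refine Finset.mem_sdiff.2 ⟨hU h y h1, fun h3 => h2 ?_⟩
        obtain ⟨k, hk⟩ := (hmemO _).1 h3
        refine (hmemO y).2 ⟨h⁻¹ * k, ?_⟩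
        rw [map_mul, Equiv.Perm.mul_apply, hk, ← Equiv.Perm.mul_apply, ← map_mul, inv_mul_cancel, map_one,
          Equiv.Perm.one_apply])
        (fun h y hy => hfree h y (Finset.mem_sdiff.1 hy).1) rfl
      have h5 : U.card = (U \ O).card + O.card := (Finset.card_sdiff_add_card_eq_card hOU).symm
      rw [h5, hcardO]
      exact dvd_add hd dvd_rfl

variable {S : Type*} [Group S] {D : Subgroup S} {x : S}

/-- normal 2-subgroups of `C(z)` lie in `D` -/
theorem rad_le (h : Cfg0 D x) {z : S} (hz : z ∈ D) {N : Subgroup S} (hN2 : IsPGroup 2 N)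
    (hNz : ∀ n ∈ N, n * z = z * n) (hNn : ∀ c : S, c * z = z * c → ∀ n ∈ N, c * n * c⁻¹ ∈ N) : N ≤ D := by
  have e : ∀ c : S, c ∈ centralizer ((zpowers z : Subgroup S) : Set S) ↔ c * z = z * c := by
    intro c
    rw [mem_centralizer_iff]
    constructor
    · intro h1
      exact (h1 z (mem_zpowers z)).symm
    · rintro h1 _ ⟨k, rfl⟩
      have : Commute c z := h1
      exact (this.zpow_right k).eq.symm
  refine h.rad (zpowers z) ((zpowers_le).2 hz) N hN2 ?_ ?_
  · intro n hn
    exact (e n).2 (hNz n hn)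
  · intro c hc n hn
    exact hNn c ((e c).1 hc) n hn

/-- a 2-subgroup of `C(x)` has at most 8 elements -/
theorem card_le_of_comm [Finite S] (h : Cfg0 D x) {Q : Subgroup S} (hQ : IsPGroup 2 Q)
    (hc : ∀ q ∈ Q, q * x = x * q) : Nat.card Q ≤ 8 := by
  obtain ⟨c, -, hcQ⟩ := h.syl Q hQ hc
  rw [← h.e8.card]
  exact Nat.card_le_card_of_injective (fun q : Q => (⟨c * q * c⁻¹, hcQ q q.2⟩ : D)) (fun a b hab => by
    have h1 : c * (a : S) * c⁻¹ = c * b * c⁻¹ := congrArg Subtype.val hab
    exact Subtype.ext (mul_left_cancel (mul_right_cancel h1)))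

/-- elements of 2-power order of `C(x)` are involutions -/
theorem sq_of_comm (h : Cfg0 D x) {q : S} {k : ℕ} (hq : q ^ 2 ^ k = 1) (hc : q * x = x * q) : q * q = 1 := by
  have hp : IsPGroup 2 ↥(zpowers q) := by
    rintro ⟨_, m, rfl⟩
    refine ⟨k, Subtype.ext ?_⟩
    show (q ^ m) ^ 2 ^ k = 1
    rw [← zpow_natCast, ← zpow_mul, mul_comm, zpow_mul, zpow_natCast, hq, one_zpow]
  obtain ⟨c, -, hcQ⟩ := h.syl (zpowers q) hp (by
    rintro _ ⟨m, rfl⟩
    have : Commute q x := hc
    exact (this.zpow_left m).eq)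
  have h1 := h.e8.inv _ (hcQ q (mem_zpowers q))
  have h2 : c * (q * q) * c⁻¹ = 1 := by rw [← h1]; group
  have h3 : q * q = c⁻¹ * (c * (q * q) * c⁻¹) * c := by group
  rw [h3, h2]; group

theorem ne_one_of_dvd [Finite S] (h : Cfg0 D x) (h16 : 16 ∣ Nat.card S) : x ≠ 1 := by
  rintro rfl
  have : Fact (Nat.Prime 2) := ⟨Nat.prime_two⟩
  obtain ⟨Q, hQ⟩ := Sylow.exists_subgroup_card_pow_prime (G := S) 2 (n := 4) (by simpa using h16)
  have := card_le_of_comm h (Q := Q) (IsPGroup.of_card hQ) (fun q _ => by rw [mul_one, one_mul])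
  rw [hQ] at this
  omega

/-- a power of prime order -/
theorem exists_prime (h : Cfg0 D x) (hx : x ≠ 1) :
    ∃ p : ℕ, p.Prime ∧ p ≠ 2 ∧ ∃ k : ℕ, orderOf (x ^ k) = p := by
  have h1 : orderOf x ≠ 1 := fun h1 => hx (orderOf_eq_one_iff.1 h1)
  obtain ⟨p, hp, hpx⟩ := Nat.exists_prime_and_dvd h1
  refine ⟨p, hp, ?_, orderOf x / p, ?_⟩
  · rintro rfl
    have := h.odd
    rw [Nat.odd_iff] at this
    omega
  · obtain ⟨m, hm⟩ := hpx
    have h0 : orderOf x ≠ 0 := by
      have := h.odd
      rw [Nat.odd_iff] at this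
      omega
    have hm0 : m ≠ 0 := by rintro rfl; omega
    rw [hm, Nat.mul_div_cancel_left _ hp.pos, orderOf_pow_of_dvd hm0 (by rw [hm]; exact dvd_mul_left _ _), hm,
      Nat.mul_div_cancel _ (Nat.pos_of_ne_zero hm0)]

theorem comm_pow (h : Cfg0 D x) (k : ℕ) : ∀ d ∈ D, d * x ^ k = x ^ k * d := by
  intro d hd
  have : Commute d x := h.comm d hd
  exact (this.pow_right k).eq

/-- the moved points of an element of prime order -/
theorem prime_dvd_support {X : Type*} [Fintype X] [DecidableEq X] {p : ℕ} (hp : p.Prime) {σ : Equiv.Perm X}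
    (hσ : orderOf σ = p) (U : Finset X) (hU : ∀ i ∈ U, σ i ≠ i) (hU' : ∀ i ∈ U, σ i ∈ U) : p ∣ U.card := by
  have hf : Finite ↥(zpowers σ) := inferInstance
  have h1 := free_dvd (zpowers σ).subtype U (by
    rintro ⟨_, m, rfl⟩ i hi
    show (σ ^ m) i ∈ U
    have hn : ∀ n : ℕ, (σ ^ n) i ∈ U := by
      intro n
      induction n with
      | zero => simpa using hi
      | succ n ih =>
        rw [pow_succ', Equiv.Perm.mul_apply]
        exact hU' _ ih
    have h2 : ∃ n : ℕ, σ ^ m = σ ^ n := by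
      have : σ ^ m ∈ zpowers σ := ⟨m, rfl⟩
      rw [← mem_powers_iff_mem_zpowers, Submonoid.mem_powers_iff] at this
      obtain ⟨n, hn⟩ := this
      exact ⟨n, hn.symm⟩
    obtain ⟨n, h2⟩ := h2
    rw [h2]; exact hn n) (by
    rintro ⟨τ, hτ⟩ i hi hfix
    have hfix' : τ i = i := hfix
    by_contra h2
    have h3 : τ ≠ 1 := fun h4 => h2 (Subtype.ext h4)
    -- `σ` is a power of `τ`
    have h4 : zpowers τ = zpowers σ := by
      have hle : zpowers τ ≤ zpowers σ := (zpowers_le).2 hτ
      refine Subgroup.eq_of_le_of_card_ge hle ?_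
      rw [Nat.card_zpowers, Nat.card_zpowers, hσ]
      have h5 : orderOf τ ∣ p := by
        rw [← hσ, ← Nat.card_zpowers, ← Nat.card_zpowers σ]
        exact card_dvd_of_le hle
      rcases (Nat.dvd_prime hp).1 h5 with h6 | h6
      · exact absurd (orderOf_eq_one_iff.1 h6) h3
      · exact h6.ge
    have h5 : σ ∈ zpowers τ := by rw [h4]; exact mem_zpowers σ
    obtain ⟨m, hm⟩ := h5
    have hm' : τ ^ m = σ := hm
    apply hU i hi
    rw [← hm']
    have h6 : τ ∈ MulAction.stabilizer (Equiv.Perm X) i := hfix'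
    exact Subgroup.zpow_mem _ h6 m)
  rwa [Nat.card_zpowers, hσ] at h1

end Cfsg.Agent.H348.KKL
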