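import Cfsg.Agent.H348.KKL.Gen
import Cfsg.Agent.CoThreeStd.M12.Out
import Cfsg.Agent.EvenType.CTwoCard

/-!
# S4546, rows `M₁₁`, `M₁₂` (helper348)

An elementary abelian subgroup of order 8 of `M₁₂` commutes with no element of odd prime order: `M₁₂` acts on 12 points,
only `1` fixes five points, and an involution fixes an even number of points.
-/

set_option autoImplicit false

universe u

namespace Cfsg.Agent.H348.KKL

open Subgroup Cfsg Cfsg.Agent.H613.KKL

/-- **no commuting pair in a group acting on 12 points such that only 1 fixes five points** -/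
theorem no_comm12 {T : Type*} [Group T] [Finite T] (φ : T →* Equiv.Perm (Fin 12))
    (h5 : ∀ t : T, ∀ s : Finset (Fin 12), 5 ≤ s.card → (∀ i ∈ s, φ t i = i) → t = 1) (D : Subgroup T) (hD : E8 D)
    {x : T} {p : ℕ} (hp : p.Prime) (hp2 : p ≠ 2) (hx : orderOf x = p) (hc : ∀ d ∈ D, d * x = x * d) : False := by
  classical
  have hinj : Function.Injective φ := by
    rw [injective_iff_map_eq_one]
    intro t ht
    exact h5 t Finset.univ (by simp) (fun i _ => by rw [ht]; rfl)
  have hσ : orderOf (φ x) = p := by rw [orderOf_injective φ hinj, hx]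
  have hx1 : x ≠ 1 := by
    rintro rfl
    rw [orderOf_one] at hx
    exact hp.one_lt.ne hx
  have hcomm : ∀ d ∈ D, ∀ i, φ d (φ x i) = φ x (φ d i) := by
    intro d hd i
    rw [← Equiv.Perm.mul_apply, ← Equiv.Perm.mul_apply, ← map_mul, ← map_mul, hc d hd]
  -- fixed points
  have hfix : ∀ t : T, t ≠ 1 → (Finset.univ.filter fun i => φ t i = i).card ≤ 4 := by
    intro t ht
    by_contra h
    push Not at h
    exact ht (h5 t _ h (fun i hi => (Finset.mem_filter.1 hi).2))
  set X : Finset (Fin 12) := Finset.univ.filter fun i => φ x i ≠ i with hX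
  set F : Finset (Fin 12) := Finset.univ.filter fun i => φ x i = i with hF
  have hFX : F.card + X.card = 12 := by
    have := Finset.card_filter_add_card_filter_not (s := (Finset.univ : Finset (Fin 12))) (fun i => φ x i = i)
    rw [Finset.card_univ, Fintype.card_fin] at this
    exact this
  have hF4 : F.card ≤ 4 := hfix x hx1
  have hpX : p ∣ X.card := prime_dvd_support hp hσ X (fun i hi => (Finset.mem_filter.1 hi).2) (fun i hi => by
    refine Finset.mem_filter.2 ⟨Finset.mem_univ _, fun h => (Finset.mem_filter.1 hi).2 ((φ x).injective h)⟩)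
  -- the fixed points of `d` in `X`
  have hY : ∀ d ∈ D, d ≠ 1 → p ∣ (X.filter fun i => φ d i = i).card ∧ (X.filter fun i => φ d i = i).card ≤ 4 := by
    intro d hd hd1
    constructor
    · refine prime_dvd_support hp hσ _ (fun i hi => (Finset.mem_filter.1 (Finset.mem_filter.1 hi).1).2) (fun i hi => ?_)
      obtain ⟨h1, h2⟩ := Finset.mem_filter.1 hi
      refine Finset.mem_filter.2 ⟨Finset.mem_filter.2 ⟨Finset.mem_univ _,
        fun h => (Finset.mem_filter.1 h1).2 ((φ x).injective h)⟩, ?_⟩
      rw [hcomm d hd, h2]
    · refine le_trans (Finset.card_le_card ?_) (hfix d hd1)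
      intro i hi
      exact Finset.mem_filter.2 ⟨Finset.mem_univ _, (Finset.mem_filter.1 hi).2⟩
  have heven : ∀ d ∈ D, d ≠ 1 → 2 ∣ (Finset.univ.filter fun i => φ d i = i).card := by
    intro d hd hd1
    have ho : orderOf (φ d) = 2 := by
      rw [orderOf_injective φ hinj]
      exact orderOf_eq_prime (by rw [pow_two]; exact hD.inv d hd) hd1
    obtain ⟨M, hM⟩ : ∃ M : Finset (Fin 12), M = Finset.univ.filter fun i => φ d i ≠ i := ⟨_, rfl⟩
    have h1 := prime_dvd_support Nat.prime_two ho M
      (fun i hi => by rw [hM] at hi; exact (Finset.mem_filter.1 hi).2) (fun i hi => by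
        rw [hM] at hi ⊢
        refine Finset.mem_filter.2 ⟨Finset.mem_univ _, fun h => (Finset.mem_filter.1 hi).2 ((φ d).injective h)⟩)
    have h2 : (Finset.univ.filter fun i => φ d i = i).card + M.card = 12 := by
      have := Finset.card_filter_add_card_filter_not (s := (Finset.univ : Finset (Fin 12))) (fun i => φ d i = i)
      rw [Finset.card_univ, Fintype.card_fin] at this
      rw [hM]
      exact this
    omega
  -- free action on `X`
  have hfree : (∀ d ∈ D, d ≠ 1 → (X.filter fun i => φ d i = i).card = 0) → 8 ∣ X.card := by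
    intro h
    have h1 := free_dvd (φ.comp D.subtype) X (by
      rintro ⟨d, hd⟩ i hi
      refine Finset.mem_filter.2 ⟨Finset.mem_univ _, fun h => (Finset.mem_filter.1 hi).2 ?_⟩
      have h' : φ x (φ d i) = φ d i := h
      rw [← hcomm d hd] at h'
      exact (φ d).injective h') (by
      rintro ⟨d, hd⟩ i hi hfx
      by_contra hne
      have hd1 : d ≠ 1 := fun h4 => hne (Subtype.ext h4)
      have h2 := h d hd hd1
      rw [Finset.card_eq_zero] at h2
      have h3 : i ∈ (X.filter fun i => φ d i = i) := Finset.mem_filter.2 ⟨hi, hfx⟩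
      rw [h2] at h3
      exact absurd h3 (Finset.notMem_empty i))
    rwa [hD.card] at h1
  by_cases h3 : p = 3
  · subst h3
    have hXc : X.card = 12 ∨ X.card = 9 := by omega
    rcases hXc with hXc | hXc
    · -- no fixed points
      have hF0 : F.card = 0 := by omega
      have h1 := hfree (fun d hd hd1 => by
        have h2 := (hY d hd hd1)
        have h4 := heven d hd hd1
        have h6 : (Finset.univ.filter fun i => φ d i = i) = (X.filter fun i => φ d i = i) := by
          ext i
          rw [Finset.mem_filter, Finset.mem_filter]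
          have h7 : i ∈ X := by
            rw [Finset.card_eq_zero] at hF0
            by_contra h8
            have h9 : i ∈ F := Finset.mem_filter.2 ⟨Finset.mem_univ _, by
              by_contra h10
              exact h8 (Finset.mem_filter.2 ⟨Finset.mem_univ _, h10⟩)⟩
            rw [hF0] at h9
            exact absurd h9 (Finset.notMem_empty i)
          simp [h7]
        rw [h6] at h4
        omega)
      rw [hXc] at h1
      omega
    · -- three fixed points
      have hF3 : F.card = 3 := by omega
      have hFD : ∀ d ∈ D, ∀ i, φ d i ∈ F ↔ i ∈ F := by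
        intro d hd i
        constructor
        · intro h
          refine Finset.mem_filter.2 ⟨Finset.mem_univ _, ?_⟩
          have h' := (Finset.mem_filter.1 h).2
          rw [← hcomm d hd] at h'
          exact (φ d).injective h'
        · intro h
          refine Finset.mem_filter.2 ⟨Finset.mem_univ _, ?_⟩
          rw [← hcomm d hd, (Finset.mem_filter.1 h).2]
      have hfinD : Fintype D := Fintype.ofFinite D
      let f : D → Equiv.Perm {i // i ∈ F} := fun d => (φ d).subtypePerm (fun i => (hFD d d.2 i))
      have hcard : Fintype.card (Equiv.Perm {i // i ∈ F}) < Fintype.card D := by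
        rw [Fintype.card_perm, Fintype.card_coe, hF3, ← Nat.card_eq_fintype_card, hD.card]
        decide
      obtain ⟨a, b, hab, hf⟩ := Fintype.exists_ne_map_eq_of_card_lt f hcard
      have hd : (a : T)⁻¹ * b ∈ D := mul_mem (inv_mem a.2) b.2
      have hd1 : (a : T)⁻¹ * b ≠ 1 := by
        intro h
        rw [inv_mul_eq_one] at h
        exact hab (Subtype.ext h)
      have hfx : ∀ i ∈ F, φ ((a : T)⁻¹ * b) i = i := by
        intro i hi
        have h1 := congrArg (fun σ : Equiv.Perm {i // i ∈ F} => ((σ ⟨i, hi⟩ : {i // i ∈ F}) : Fin 12)) hf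
        have h2 : φ (a : T) i = φ (b : T) i := h1
        rw [map_mul, Equiv.Perm.mul_apply, ← h2, ← Equiv.Perm.mul_apply, ← map_mul, inv_mul_cancel, map_one,
          Equiv.Perm.one_apply]
      have h1 := hY _ hd hd1
      have h2 := heven _ hd hd1
      have h4 := hfix _ hd1
      have h6 : (Finset.univ.filter fun i => φ ((a : T)⁻¹ * b) i = i).card =
          F.card + (X.filter fun i => φ ((a : T)⁻¹ * b) i = i).card := by
        have h7 := Finset.card_filter_add_card_filter_not
          (s := (Finset.univ.filter fun i => φ ((a : T)⁻¹ * b) i = i)) (fun i => φ x i = i)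
        rw [← h7]
        congr 1
        · congr 1
          ext i
          rw [Finset.mem_filter, Finset.mem_filter, Finset.mem_filter]
          constructor
          · rintro ⟨-, h8⟩
            exact ⟨Finset.mem_univ _, h8⟩
          · rintro ⟨h8, h9⟩
            exact ⟨⟨Finset.mem_univ _, hfx i (Finset.mem_filter.2 ⟨Finset.mem_univ _, h9⟩)⟩, h9⟩
        · congr 1
          ext i
          rw [Finset.mem_filter, Finset.mem_filter, Finset.mem_filter, Finset.mem_filter]
          tauto
      omega
  · have hp5 : 5 ≤ p := by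
      have := hp.two_le
      by_contra h
      have : p = 4 := by omega
      rw [this] at hp
      exact absurd hp (by norm_num)
    have h1 := hfree (fun d hd hd1 => by
      obtain ⟨h2, h4⟩ := hY d hd hd1
      by_contra h6
      have := Nat.le_of_dvd (Nat.pos_of_ne_zero h6) h2
      omega)
    have h2 : X.card = 8 := by omega
    rw [h2] at hpX
    have h4 : p ∣ 2 ^ 3 := by simpa using hpX
    have h6 := hp.dvd_of_dvd_pow h4
    have := Nat.le_of_dvd (by norm_num) h6
    omega

/-- no configuration -/
theorem noCfg12 {T : Type*} [Group T] [Finite T] (φ : T →* Equiv.Perm (Fin 12))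
    (h5 : ∀ t : T, ∀ s : Finset (Fin 12), 5 ≤ s.card → (∀ i ∈ s, φ t i = i) → t = 1) (h16 : 16 ∣ Nat.card T) :
    NoCfg T := by
  intro D x h
  obtain ⟨p, hp, hp2, k, hk⟩ := exists_prime h (ne_one_of_dvd h h16)
  exact no_comm12 φ h5 D h.e8 hp hp2 hk (comm_pow h k)

theorem five12 (t : Spor.M12) (s : Finset (Fin 12)) (hs : 5 ≤ s.card) (h : ∀ i ∈ s, CoThreeStd.M12.rho t i = i) :
    t = 1 := by
  have h1 : CoThreeStd.M12.rho t ∈ CoThreeStd.M12.G12 := by
    rw [← CoThreeStd.M12.range_eq]
    exact ⟨t, rfl⟩
  have h2 := CoThreeStd.M12.Out.fix_five h1 s hs h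
  exact CoThreeStd.M12.rho_injective (h2.trans (map_one _).symm)

/-- **row `M₁₂`** -/
theorem E_M12 {S : Type u} [Group S] [Finite S] (h : Spor.IsoM12 S) : NoCfg S := by
  have hc := EvenType.CTwoCard.m12 h
  obtain ⟨e⟩ := h
  refine noCfg12 ((CoThreeStd.M12.rho : Spor.M12 →* _).comp e.toMonoidHom) (fun t s hs ht => ?_) (by rw [hc]; norm_num)
  have := five12 (e t) s hs ht
  exact e.injective (this.trans (map_one _).symm)

/-- **row `M₁₁`** -/
theorem E_M11 {S : Type u} [Group S] [Finite S] (h : Spor.IsoM11 S) : NoCfg S := by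
  have hc := EvenType.CTwoCard.m11 h
  obtain ⟨e⟩ := h
  let i : Spor.M11 →* Spor.M12 := Subgroup.inclusion inf_le_left
  refine noCfg12 ((CoThreeStd.M12.rho : Spor.M12 →* _).comp (i.comp e.toMonoidHom)) (fun t s hs ht => ?_)
    (by rw [hc]; norm_num)
  have h1 := five12 (i (e t)) s hs ht
  have h2 : e t = 1 := Subgroup.inclusion_injective _ (h1.trans (map_one i).symm)
  exact e.injective (h2.trans (map_one _).symm)

end Cfsg.Agent.H348.KKL
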