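import Cfsg.Agent.H348.KKL.Gen
import Cfsg.Agent.OddHalf.Small.Mathieu
import Cfsg.Agent.H865.Three
import Cfsg.Agent.H729.M24Deg
import Cfsg.Agent.EvenType.CTwoCard

/-!
# S4546, rows `M₂₂`, `M₂₃`, `M₂₄` (helper348)

* `kill_fix` : if `z ∈ D#` fixes a point then it fixes exactly an octad, whose pointwise stabilizer (of order 16) is
  normal in the centralizer of `z`.
* otherwise `D` is semiregular and `x` is an element of order 3 without fixed points, which commutes with an element of
  order 4.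
-/

set_option autoImplicit false

universe u

namespace Cfsg.Agent.H348.KKL

open Subgroup Cfsg Cfsg.Agent.H613.KKL
open Cfsg.Agent.SporadicA.GolayBase Cfsg.Agent.SporadicA.GolayPerm
open Cfsg.Agent.SporadicA.OctadStab Cfsg.Agent.SporadicA.OctadFix
open Cfsg.Agent.OddHalf.Small.Mathieu (exists_fix_octad)

/-- **an involution of `D` with a fixed point** -/
theorem kill_fix {S : Type*} [Group S] {D : Subgroup S} {x : S} (h : Cfg0 D x) (φ : S →* Equiv.Perm GolayPt)
    (hφ : Function.Injective φ) (h24 : ∀ s, φ s ∈ M24) {z : S} (hz : z ∈ D) (hz1 : z ≠ 1) {p : GolayPt} (hp : φ z p = p)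
    (hr : ∀ o ∈ octads, (∀ q, φ z q = q ↔ q ∈ o) → fixOct o ≤ φ.range) : False := by
  have hzz : φ z * φ z = 1 := by rw [← map_mul, h.e8.inv z hz, map_one]
  have hne : φ z ≠ 1 := fun h1 => hz1 (hφ (h1.trans (map_one _).symm))
  obtain ⟨o, ho, hzo⟩ := exists_fix_octad (h24 z) hzz hne hp
  have hro := hr o ho hzo
  have hcomm : ∀ a ∈ fixOct o, ∀ b ∈ fixOct o, a * b = b * a := by
    intro a ha b hb
    have h1 := fixOct_sq ho (mul_mem ha hb)
    have h2 := fixOct_sq ho ha
    have h3 := fixOct_sq ho hb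
    have e1 : (a * b)⁻¹ = a * b := inv_eq_of_mul_eq_one_left h1
    have e2 : a⁻¹ = a := inv_eq_of_mul_eq_one_left h2
    have e3 : b⁻¹ = b := inv_eq_of_mul_eq_one_left h3
    rw [← e1, mul_inv_rev, e2, e3]
  have hzo' : φ z ∈ fixOct o := mem_fixOct.2 ⟨h24 z, fun q hq => (hzo q).2 hq⟩
  have hle := rad_le h hz (N := (fixOct o).comap φ) (by
    rintro ⟨n, hn⟩
    refine ⟨1, Subtype.ext ?_⟩
    show n ^ 2 ^ 1 = 1
    rw [pow_one, pow_two]
    apply hφ
    rw [map_mul, map_one]
    exact fixOct_sq ho hn) (by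
    intro n hn
    apply hφ
    rw [map_mul, map_mul]
    exact hcomm _ hn _ hzo') (by
    intro c hc n hn
    have hn' := mem_fixOct.1 (show φ n ∈ fixOct o from hn)
    show φ (c * n * c⁻¹) ∈ fixOct o
    refine mem_fixOct.2 ⟨h24 _, fun q hq => ?_⟩
    have h1 : (φ c)⁻¹ q ∈ o := by
      rw [← hzo]
      have h2 : φ z * (φ c)⁻¹ = (φ c)⁻¹ * φ z := by
        rw [← map_inv, ← map_mul, ← map_mul]
        congr 1
        have : Commute c z := hc
        exact this.inv_left.eq.symm
      rw [← Equiv.Perm.mul_apply, h2, Equiv.Perm.mul_apply, (hzo q).2 hq]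
    rw [map_mul, map_mul, map_inv, Equiv.Perm.mul_apply, Equiv.Perm.mul_apply, hn'.2 _ h1, ← Equiv.Perm.mul_apply,
      mul_inv_cancel, Equiv.Perm.one_apply])
  have hD : Finite D := Nat.finite_of_card_ne_zero (by rw [h.e8.card]; norm_num)
  have h1 : Nat.card (fixOct o) ≤ Nat.card D := by
    classical
    refine Nat.card_le_card_of_surjective
      (fun d : D => if hd : φ d ∈ fixOct o then (⟨φ d, hd⟩ : fixOct o) else 1) ?_
    rintro ⟨g, hg⟩
    obtain ⟨n, rfl⟩ := hro hg
    have hn : n ∈ D := hle hg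
    refine ⟨⟨n, hn⟩, ?_⟩
    show (if hd : φ n ∈ fixOct o then (⟨φ n, hd⟩ : fixOct o) else 1) = _
    rw [dif_pos hg]
  rw [card_fixOct ho, h.e8.card] at h1
  omega

/-- **row `M₂₃`** -/
theorem E_M23 {S : Type u} [Group S] [Finite S] (h : Spor.IsoM23 S) : NoCfg S := by
  obtain ⟨e⟩ := h
  intro D x hc
  obtain ⟨z, hz, hz1⟩ : ∃ z ∈ D, z ≠ 1 := by
    by_contra hno
    push Not at hno
    have : D = ⊥ := (eq_bot_iff_forall D).2 hno
    have h8 := hc.e8.card
    rw [this, card_bot] at h8
    omega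
  refine kill_fix hc ((Subgroup.subtype Spor.M23).comp e.toMonoidHom) (Subtype.val_injective.comp e.injective)
    (fun s => (e s).2.1) hz hz1 (p := none) (e z).2.2 ?_
  intro o ho hzo g hg
  have hn : (none : GolayPt) ∈ o := (hzo none).1 (e z).2.2
  rw [mem_fixOct] at hg
  refine ⟨e.symm ⟨g, hg.1, hg.2 _ hn⟩, ?_⟩
  show ((e (e.symm ⟨g, hg.1, hg.2 _ hn⟩) : Spor.M23) : Equiv.Perm GolayPt) = g
  rw [e.apply_symm_apply]

/-- **row `M₂₂`** -/
theorem E_M22 {S : Type u} [Group S] [Finite S] (h : Spor.IsoM22 S) : NoCfg S := by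
  obtain ⟨e⟩ := h
  intro D x hc
  obtain ⟨z, hz, hz1⟩ : ∃ z ∈ D, z ≠ 1 := by
    by_contra hno
    push Not at hno
    have : D = ⊥ := (eq_bot_iff_forall D).2 hno
    have h8 := hc.e8.card
    rw [this, card_bot] at h8
    omega
  refine kill_fix hc ((Subgroup.subtype Spor.M22).comp e.toMonoidHom) (Subtype.val_injective.comp e.injective)
    (fun s => (e s).2.1.1) hz hz1 (p := none) (e z).2.1.2 ?_
  intro o ho hzo g hg
  have hn : (none : GolayPt) ∈ o := (hzo none).1 (e z).2.1.2
  have hn0 : (some 0 : GolayPt) ∈ o := (hzo (some 0)).1 (e z).2.2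
  rw [mem_fixOct] at hg
  have hm : g ∈ Spor.M22 := ⟨⟨hg.1, hg.2 _ hn⟩, hg.2 _ hn0⟩
  refine ⟨e.symm ⟨g, hm⟩, ?_⟩
  show ((e (e.symm ⟨g, hm⟩) : Spor.M22) : Equiv.Perm GolayPt) = g
  rw [e.apply_symm_apply]

/-! ### `M₂₄` -/

open Cfsg.Agent.SporadicStructure.M24El Cfsg.Agent.H729.M24Deg

/-- an element of order 4 commuting with `B` -/
def qB : ℕ := 92193063495748048173002166902302156

theorem ok_qB : ok qB = true := by decide +kernel

theorem comm_qB : el qB * el H865.Three.B = el H865.Three.B * el qB := by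
  rw [← el_pcomp ok_qB H865.Three.okB, ← el_pcomp H865.Three.okB ok_qB]
  exact congrArg el (Nat.eq_of_beq_eq_true (by decide +kernel))

theorem qB_four : el qB ^ 4 = 1 := el_pow_eq_one ok_qB (by decide +kernel)

theorem qB_sq : el qB * el qB ≠ 1 := by
  rw [← el_pcomp ok_qB ok_qB]
  exact el_ne_one (ok_pcomp ok_qB ok_qB) 0 (by norm_num) (by decide +kernel)

theorem A_fix : ∃ p : GolayPt, el H865.Three.A • p = p := by
  refine ⟨pt 1, ?_⟩
  rw [el_smul_pt H865.Three.okA]
  decide +kernel

/-- **row `M₂₄`** -/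
theorem E_M24 {S : Type u} [Group S] [Finite S] (h : Spor.IsoM24 S) : NoCfg S := by
  classical
  have hcard := EvenType.CTwoCard.m24 h
  obtain ⟨e⟩ := h
  intro D x hc
  set φ : S →* Equiv.Perm GolayPt := (Subgroup.subtype M24).comp e.toMonoidHom with hφ
  have hinj : Function.Injective φ := Subtype.val_injective.comp e.injective
  by_cases hfix : ∃ z ∈ D, z ≠ 1 ∧ ∃ p, φ z p = p
  · obtain ⟨z, hz, hz1, p, hp⟩ := hfix
    refine kill_fix hc φ hinj (fun s => (e s).2) hz hz1 hp ?_
    intro o ho hzo g hg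
    rw [mem_fixOct] at hg
    refine ⟨e.symm ⟨g, hg.1⟩, ?_⟩
    show ((e (e.symm ⟨g, hg.1⟩) : M24) : Equiv.Perm GolayPt) = g
    rw [e.apply_symm_apply]
  · push Not at hfix
    have hx1 := ne_one_of_dvd hc (by rw [hcard]; norm_num)
    -- elements of prime order in `⟨x⟩`
    have hprime : ∀ k p : ℕ, p.Prime → orderOf (x ^ k) = p → p ≠ 2 → p = 3 ∧ ∀ i, φ (x ^ k) i ≠ i := by
      intro k p hp ho hp2
      have hσ : orderOf (φ (x ^ k)) = p := by rw [orderOf_injective φ hinj, ho]
      obtain ⟨F, hF⟩ : ∃ F : Finset GolayPt, F = Finset.univ.filter fun i => φ (x ^ k) i = i := ⟨_, rfl⟩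
      obtain ⟨X, hX⟩ : ∃ X : Finset GolayPt, X = Finset.univ.filter fun i => φ (x ^ k) i ≠ i := ⟨_, rfl⟩
      have h24 : F.card + X.card = 24 := by
        have := Finset.card_filter_add_card_filter_not (s := (Finset.univ : Finset GolayPt)) (fun i => φ (x ^ k) i = i)
        rw [Finset.card_univ, show Fintype.card GolayPt = 24 from rfl] at this
        rw [hF, hX]
        exact this
      have h1 := prime_dvd_support hp hσ X (fun i hi => by rw [hX] at hi; exact (Finset.mem_filter.1 hi).2)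
        (fun i hi => by
          rw [hX] at hi ⊢
          refine Finset.mem_filter.2 ⟨Finset.mem_univ _, fun h => (Finset.mem_filter.1 hi).2 ((φ (x ^ k)).injective h)⟩)
      have hX0 : X.card ≠ 0 := by
        intro h0
        rw [Finset.card_eq_zero] at h0
        have h2 : φ (x ^ k) = 1 := by
          ext i
          by_contra h3
          have : i ∈ X := by rw [hX]; exact Finset.mem_filter.2 ⟨Finset.mem_univ _, fun h4 => h3 (by rw [h4]; rfl)⟩
          rw [h0] at this
          exact absurd this (Finset.notMem_empty i)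
        rw [h2, orderOf_one] at hσ
        exact hp.one_lt.ne hσ
      have h8 := free_dvd (φ.comp D.subtype) F (by
        rintro ⟨d, hd⟩ i hi
        rw [hF] at hi ⊢
        refine Finset.mem_filter.2 ⟨Finset.mem_univ _, ?_⟩
        show φ (x ^ k) (φ d i) = φ d i
        rw [← Equiv.Perm.mul_apply, ← map_mul, ← comm_pow hc k d hd, map_mul, Equiv.Perm.mul_apply,
          (Finset.mem_filter.1 hi).2]) (by
        rintro ⟨d, hd⟩ i hi hfx
        by_contra hne
        exact hfix d hd (fun h4 => hne (Subtype.ext h4)) i hfx)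
      rw [hc.e8.card] at h8
      have hF' : F.card = 0 ∧ p ∣ 24 ∨ F.card = 8 ∧ p ∣ 16 ∨ F.card = 16 ∧ p ∣ 8 := by
        have : X.card = 24 - F.card := by omega
        rw [this] at h1
        have h5 : F.card = 0 ∨ F.card = 8 ∨ F.card = 16 := by omega
        rcases h5 with h5 | h5 | h5 <;> rw [h5] at h1 <;> simp only [Nat.sub_zero, Nat.reduceSub] at h1
        · exact Or.inl ⟨h5, h1⟩
        · exact Or.inr (Or.inl ⟨h5, h1⟩)
        · exact Or.inr (Or.inr ⟨h5, h1⟩)
      have hno : ∀ m : ℕ, ¬ p ∣ 2 ^ m := fun m hm => by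
        have := Nat.le_of_dvd (by norm_num) (hp.dvd_of_dvd_pow hm)
        have := hp.two_le
        omega
      rcases hF' with ⟨h5, h6⟩ | ⟨h5, h6⟩ | ⟨h5, h6⟩
      · have h7 : p = 3 := by
          rw [show 24 = 2 ^ 3 * 3 by norm_num] at h6
          rcases (Nat.Prime.dvd_mul hp).1 h6 with h7 | h7
          · exact absurd h7 (hno 3)
          · exact (Nat.prime_dvd_prime_iff_eq hp Nat.prime_three).1 h7
        refine ⟨h7, fun i hi => ?_⟩
        rw [Finset.card_eq_zero] at h5
        have : i ∈ F := by rw [hF]; exact Finset.mem_filter.2 ⟨Finset.mem_univ _, hi⟩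
        rw [h5] at this
        exact absurd this (Finset.notMem_empty i)
      · exact absurd (show p ∣ 2 ^ 4 by simpa using h6) (hno 4)
      · exact absurd (show p ∣ 2 ^ 3 by simpa using h6) (hno 3)
    -- `⟨x⟩` acts freely
    have hodd := hc.odd
    have hfree : ∀ k : ℕ, x ^ k ≠ 1 → ∀ i, φ (x ^ k) i ≠ i := by
      intro k hk i hi
      have h1 : orderOf (x ^ k) ≠ 1 := fun h1 => hk (orderOf_eq_one_iff.1 h1)
      obtain ⟨p, hp, m, hm⟩ := Nat.exists_prime_and_dvd h1
      have h0 : orderOf (x ^ k) ≠ 0 := (orderOf_pos _).ne'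
      have hm0 : m ≠ 0 := by rintro rfl; omega
      have h2 : orderOf (x ^ (k * m)) = p := by
        rw [pow_mul, orderOf_pow_of_dvd hm0 (by rw [hm]; exact dvd_mul_left _ _), hm,
          Nat.mul_div_cancel _ (Nat.pos_of_ne_zero hm0)]
      have hp2 : p ≠ 2 := by
        rintro rfl
        have h3 : 2 ∣ orderOf x := by
          rw [← h2]; exact orderOf_pow_dvd _
        rw [Nat.odd_iff] at hodd
        omega
      apply (hprime (k * m) p hp h2 hp2).2 i
      rw [pow_mul, map_pow]
      have h6 : φ (x ^ k) ∈ MulAction.stabilizer (Equiv.Perm GolayPt) i := hi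
      exact Subgroup.pow_mem _ h6 m
    have h24 := free_dvd (φ.comp (zpowers x).subtype) (Finset.univ : Finset GolayPt) (fun _ _ _ => Finset.mem_univ _) (by
      rintro ⟨g, hg⟩ i - hfx
      rw [← mem_powers_iff_mem_zpowers, Submonoid.mem_powers_iff] at hg
      obtain ⟨k, rfl⟩ := hg
      by_contra hne
      exact hfree k (fun h4 => hne (Subtype.ext h4)) i hfx)
    rw [Nat.card_zpowers, Finset.card_univ, show Fintype.card GolayPt = 24 from rfl] at h24
    have hx3 : orderOf x = 3 := by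
      have h1 : orderOf x ∣ 3 := by
        rw [show 24 = 2 ^ 3 * 3 by norm_num] at h24
        exact (Nat.Coprime.dvd_of_dvd_mul_left (Nat.Coprime.pow_right 3 (Nat.coprime_two_right.2 hodd)) h24)
      rcases (Nat.dvd_prime Nat.prime_three).1 h1 with h2 | h2
      · exact absurd (orderOf_eq_one_iff.1 h2) hx1
      · exact h2
    have hex : orderOf (e x) = 3 := by rw [e.orderOf_eq, hx3]
    obtain ⟨c, hcx⟩ := H865.Three.conj_of_orderOf hex
    rcases hcx with hA | hB
    · obtain ⟨p, hp⟩ := A_fix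
      rw [← hA] at hp
      have h1 : e x • (c⁻¹ • p) = c⁻¹ • p := by
        rw [mul_smul, mul_smul] at hp
        rw [eq_inv_smul_iff]
        exact hp
      have h2 : φ (x ^ 1) (c⁻¹ • p) = c⁻¹ • p := by rw [pow_one]; exact h1
      exact hfree 1 (by rw [pow_one]; exact hx1) _ h2
    · -- an element of order 4
      obtain ⟨q, hqe⟩ := e.surjective (c⁻¹ * el qB * c)
      have hq : q * x = x * q := by
        apply e.injective
        rw [map_mul, map_mul, hqe]
        have h1 : e x = c⁻¹ * el H865.Three.B * c := by rw [← hB]; group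
        rw [h1]
        calc c⁻¹ * el qB * c * (c⁻¹ * el H865.Three.B * c) = c⁻¹ * (el qB * el H865.Three.B) * c := by group
          _ = c⁻¹ * (el H865.Three.B * el qB) * c := by rw [comm_qB]
          _ = c⁻¹ * el H865.Three.B * c * (c⁻¹ * el qB * c) := by group
      have h4 : q ^ 2 ^ 2 = 1 := by
        apply e.injective
        rw [map_pow, hqe, map_one]
        calc (c⁻¹ * el qB * c) ^ 2 ^ 2 = c⁻¹ * el qB ^ 4 * c := by
              simp only [show 2 ^ 2 = 4 from rfl, pow_succ, pow_zero, one_mul]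
              group
          _ = 1 := by rw [qB_four]; group
      have h5 := sq_of_comm hc h4 hq
      apply qB_sq
      have h6 : c⁻¹ * el qB * c * (c⁻¹ * el qB * c) = 1 := by
        rw [← hqe, ← map_mul, h5, map_one]
      calc el qB * el qB = c * (c⁻¹ * el qB * c * (c⁻¹ * el qB * c)) * c⁻¹ := by group
        _ = 1 := by rw [h6]; group

end Cfsg.Agent.H348.KKL
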